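import Mathlib

universe u v

namespace Groth.Agent.FPDescent

theorem exists_fp_descent {R : Type u} [CommRing R] (S : Submonoid R) (M : Type v) [AddCommGroup M]
    [Module R M] [Module.FinitePresentation (Localization S) (LocalizedModule S M)] :
    ∃ (n : ℕ) (N : Submodule R (Fin n → R)) (φ : ((Fin n → R) ⧸ N) →ₗ[R] M),
      N.FG ∧ Function.Bijective (LocalizedModule.map S φ) := by
  classical
  obtain ⟨n, y, hy⟩ := Module.Finite.exists_fin (R := Localization S) (M := LocalizedModule S M)
  choose m s hms using fun i => (LocalizedModule.induction_on (β := fun z => ∃ (m : M) (s : S), LocalizedModule.mk m s = z) (fun m s => ⟨m, s, rfl⟩) (y i))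
  let L : (Fin n → R) →ₗ[R] M := Fintype.linearCombination R m
  let L' := LocalizedModule.map S L
  have hL : Function.Surjective L' := by
    rw [← LinearMap.range_eq_top, eq_top_iff, ← hy, Submodule.span_le]
    rintro _ ⟨i, rfl⟩
    refine ⟨LocalizedModule.mk (Pi.single i 1) (s i), ?_⟩
    rw [LocalizedModule.map_mk, ← hms]
    congr 1
    simp [L, Fintype.linearCombination_apply_single]
  haveI : Module.Finite (Localization S) (LocalizedModule S (Fin n → R)) :=
    Module.Finite.of_isLocalizedModule S (LocalizedModule.mkLinearMap S (Fin n → R))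
  obtain ⟨T, hT⟩ := Module.FinitePresentation.fg_ker L' hL
  have hT' : ∀ z ∈ T, ∃ (k : Fin n → R) (t : S), L k = 0 ∧ LocalizedModule.mk k t = z := by
    intro z hz
    have h0 : L' z = 0 := LinearMap.mem_ker.1 (hT ▸ Submodule.subset_span hz)
    induction z using LocalizedModule.induction_on with
    | h k t =>
      rw [LocalizedModule.map_mk, ← LocalizedModule.zero_mk (1 : S), LocalizedModule.mk_eq] at h0
      obtain ⟨u, hu⟩ := h0
      refine ⟨(u : R) • k, u * t, ?_, ?_⟩
      · simpa [Submonoid.smul_def] using hu
      · rw [LocalizedModule.mk_eq]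
        exact ⟨1, by simp [Submonoid.smul_def, smul_smul, mul_comm]⟩
  choose! k t hk0 hkz using hT'
  let N : Submodule R (Fin n → R) := Submodule.span R (T.image k : Set (Fin n → R))
  have hNle : N ≤ LinearMap.ker L := Submodule.span_le.2 fun x hx => by
    obtain ⟨z, hz, rfl⟩ := Finset.mem_image.1 (Finset.mem_coe.1 hx)
    exact hk0 z hz
  let φ := N.liftQ L hNle
  refine ⟨n, N, φ, ⟨_, rfl⟩, ?_, ?_⟩
  · rw [injective_iff_map_eq_zero]
    intro w
    induction w using LocalizedModule.induction_on with
    | h x a =>
      obtain ⟨x, rfl⟩ := Submodule.Quotient.mk_surjective _ x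
      intro hx
      rw [LocalizedModule.map_mk] at hx
      have hx' : LocalizedModule.mk x a ∈ LinearMap.ker L' := by
        rw [LinearMap.mem_ker, LocalizedModule.map_mk]; exact hx
      have key : ∀ z ∈ Submodule.span (Localization S) (T : Set (LocalizedModule S (Fin n → R))),
          ∃ (q : Fin n → R) (b : S), q ∈ N ∧ LocalizedModule.mk q b = z := by
        intro z hz
        induction hz using Submodule.span_induction with
        | mem z hz => exact ⟨k z, t z, Submodule.subset_span (Finset.mem_coe.2 (Finset.mem_image_of_mem k hz)), hkz z hz⟩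
        | zero => exact ⟨0, 1, N.zero_mem, LocalizedModule.zero_mk 1⟩
        | add z z' _ _ h h' =>
          obtain ⟨q, b, hq, rfl⟩ := h
          obtain ⟨q', b', hq', rfl⟩ := h'
          exact ⟨b' • q + b • q', b * b', N.add_mem (N.smul_mem _ hq) (N.smul_mem _ hq'), LocalizedModule.mk_add_mk.symm⟩
        | smul c z _ h =>
          obtain ⟨q, b, hq, rfl⟩ := h
          induction c using Localization.induction_on with
          | H c => exact ⟨c.1 • q, c.2 * b, N.smul_mem _ hq, (LocalizedModule.mk_smul_mk c.1 q c.2 b).symm⟩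
      obtain ⟨q, b, hq, hqx⟩ := key _ (hT ▸ hx')
      obtain ⟨u, hu⟩ := LocalizedModule.mk_eq.1 hqx
      rw [← LocalizedModule.zero_mk (1 : S), LocalizedModule.mk_eq]
      refine ⟨u * b, ?_⟩
      simp only [smul_zero, one_smul, Submonoid.smul_def, Submonoid.coe_mul, ← Submodule.Quotient.mk_smul,
        Submodule.Quotient.mk_eq_zero]
      rw [mul_smul]
      simp only [Submonoid.smul_def] at hu
      rw [← hu]
      exact N.smul_mem _ (N.smul_mem _ hq)
  · intro z
    obtain ⟨w, rfl⟩ := hL z
    induction w using LocalizedModule.induction_on with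
    | h x a =>
      refine ⟨LocalizedModule.mk (Submodule.Quotient.mk x) a, ?_⟩
      rw [LocalizedModule.map_mk, LocalizedModule.map_mk]
      rfl

end Groth.Agent.FPDescent
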